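import Cfsg.Agent.E6AltSection65.WeylTables
import Cfsg.Agent.Chevalley.Data.SysE6
import Cfsg.Prelude.Def_ChevAutomorphisms

/-!
Searches in the Weyl group of type E6: linear functions on the roots modulo a prime are given by
their values on the fundamental roots.
-/

set_option autoImplicit false

namespace CfsgLib.E6Alt65

open Cfsg.Lie CfsgLib.Chevalley

/-- Biased coordinate of a root. -/
def coef (r j : ℕ) : ℕ := (coefTab >>> (4 * (6 * r + j))) % 16

/-- Biased pairing of roots. -/
def pT (r t : ℕ) : ℕ := (pairTab >>> (4 * (72 * r + t))) % 16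

/-- Indices of the fundamental roots. -/
def sp (i : ℕ) : ℕ := [56, 46, 42, 39, 37, 36].getD i 0

/-- Image of the `j`-th fundamental root under the `i`-th fundamental reflection. -/
def wsI (i j : ℕ) : ℕ := wsList.getD (6 * i + j) 0

/-- Value at a root given by its biased coordinate word, for six values on the fundamental roots. -/
def val6 (ℓ w a b c d e f : ℕ) : ℕ :=
  (w % 16 * a + (w >>> 4) % 16 * b + (w >>> 8) % 16 * c + (w >>> 12) % 16 * d +
    (w >>> 16) % 16 * e + (w >>> 20) % 16 * f + (4 * ℓ - 4) * (a + b + c + d + e + f)) % ℓ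

/-- Value on a root of the function with the given values on the fundamental roots. -/
def vmod (ℓ : ℕ) (φ : List ℕ) (r : ℕ) : ℕ :=
  match φ with
  | [a, b, c, d, e, f] => val6 ℓ (coefTab >>> (24 * r)) a b c d e f
  | _ => 0

/-- Composition with a fundamental reflection. -/
def rf (ℓ : ℕ) (φ : List ℕ) (i : ℕ) : List ℕ := (List.range 6).map fun j => vmod ℓ φ (wsI i j)

/-- Composition with the map given by the images of the fundamental roots. -/
def via (ℓ : ℕ) (φ : List ℕ) (σ : List ℕ) : List ℕ := σ.map fun r => vmod ℓ φ r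

/-- Scaling. -/
def scl (ℓ k : ℕ) (φ : List ℕ) : List ℕ := φ.map fun a => (k * a) % ℓ

/-- Digits to base five. -/
def dig (n : ℕ) : List ℕ :=
  [n / 3125 % 5, n / 625 % 5, n / 125 % 5, n / 25 % 5, n / 5 % 5, n % 5]

/-- Number with the given digits to base five. -/
def code (φ : List ℕ) : ℕ := φ.foldl (fun n a => 5 * n + a) 0

/-- Follow the table of next reflections. -/
def walk (T : ℕ) (J : List ℕ) : ℕ → List ℕ → List ℕ
  | 0, φ => φ
  | k + 1, φ =>
    let i := (T >>> (4 * code φ)) % 16
    if J.contains i then walk T J k (rf 5 φ i) else φ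

/-- The number of roots with the given value. -/
def cnt (φ : List ℕ) (v : ℕ) : ℕ := (List.range 72).countP fun r => vmod 5 φ r == v

/-- Roots on which the function takes the `k`-fold of its value at the `i`-th fundamental root. -/
def cand (ℓ : ℕ) (φ : List ℕ) (k i : ℕ) : List ℕ :=
  (List.range 72).filter fun r => vmod ℓ φ r == (k * φ.getD i 0) % ℓ

/-- The pairings of `r`, `t` are those of the fundamental roots `i`, `j`. -/
def comp (i j r t : ℕ) : Bool := pT r t == pT (sp i) (sp j)

/-- Extensions of a partial assignment of images of fundamental roots. -/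
def ext (cd : ℕ → List ℕ) : List ℕ → List (ℕ × ℕ) → List (List (ℕ × ℕ))
  | [], acc => [acc]
  | i :: is, acc =>
    ((cd i).filter fun a => acc.all fun e => comp i e.1 a e.2).flatMap fun a =>
      ext cd is ((i, a) :: acc)

/-- The images in the order of the fundamental roots. -/
def sortImg : List (ℕ × ℕ) → List ℕ
  | [(_, f), (_, e), (_, b), (_, d), (_, c), (_, a)] => [a, b, c, d, e, f]
  | _ => []

/-- Candidates for the images of the fundamental roots under elements scaling the function. -/
def maps (ℓ : ℕ) (φ : List ℕ) (k : ℕ) : List (List ℕ) :=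
  (ext (cand ℓ φ k) [0, 2, 3, 1, 4, 5] []).map sortImg

/-- Condition holding for elements of the Weyl group, but not for the negative of one. -/
def wInv (σ : List ℕ) : Bool :=
  (List.range 6).all fun m =>
    (coef (σ.getD 0 0) m + 2 * coef (σ.getD 2 0) m + coef (σ.getD 4 0) m +
      2 * coef (σ.getD 5 0) m) % 3 == [1, 0, 2, 0, 1, 2].getD m 0

/-- Images of the fundamental roots under a word. -/
def imgs (L : List ℕ) : List ℕ :=
  (List.range 6).map fun j => L.foldr (fun i r => chevE6.reflectRoot i r) (sp j)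

/-- The base function modulo five. -/
def a0 : List ℕ := [1, 1, 0, 0, 0, 1]

/-- The second function modulo five. -/
def b0 : List ℕ := [1, 0, 3, 3, 1, 2]

/-- The fundamental roots on which the base function vanishes. -/
def J0 : List ℕ := [2, 3, 4]

/-- Words for the stabiliser of the base function. -/
def stabWords : List (List ℕ) :=
  [[], [2], [3], [4], [3, 2], [4, 2], [2, 3], [4, 3], [3, 4], [2, 3, 2], [4, 3, 2], [3, 4, 2],
    [4, 2, 3], [3, 4, 3], [2, 3, 4], [4, 2, 3, 2], [3, 4, 3, 2], [2, 3, 4, 2], [3, 4, 2, 3],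
    [2, 3, 4, 3], [3, 4, 2, 3, 2], [2, 3, 4, 3, 2], [2, 3, 4, 2, 3], [2, 3, 4, 2, 3, 2]]

/-- Their images of fundamental roots. -/
def stabImgs : List (List ℕ) :=
  [[56, 46, 42, 39, 37, 36], [57, 46, 29, 43, 37, 36], [56, 47, 43, 32, 40, 36], [56, 46, 42, 40, 34, 38],
    [58, 47, 28, 42, 40, 36], [57, 46, 29, 44, 34, 38], [57, 50, 39, 28, 44, 36], [56, 48, 44, 31, 39, 38],
    [56, 47, 43, 37, 31, 41], [58, 50, 32, 29, 44, 36], [59, 48, 27, 42, 39, 38], [58, 47, 28, 44, 31, 41],
    [57, 51, 40, 27, 43, 38], [56, 48, 44, 34, 32, 41], [57, 50, 39, 37, 27, 45], [59, 51, 31, 29, 43, 38],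
    [59, 48, 27, 43, 32, 41], [58, 50, 32, 40, 27, 45], [58, 53, 37, 27, 42, 41], [57, 51, 40, 34, 28, 45],
    [59, 53, 34, 28, 42, 41], [59, 51, 31, 39, 28, 45], [58, 53, 37, 31, 29, 45], [59, 53, 34, 32, 29, 45]]

/-- Coefficients of the invariant quadratic form modulo five. -/
def qfM : List ℕ :=
  [2, 4, 0, 3, 2, 1, 4, 3, 3, 2, 3, 4, 0, 3, 0, 1, 4, 2, 3, 2, 1, 4, 1, 3, 2, 3, 4, 1, 0, 0,
    1, 4, 2, 3, 0, 2]

/-- The invariant quadratic form. -/
def qf : List ℕ → ℕ
  | [a, b, c, d, e, f] =>
    (a * (2 * a + 4 * b + 3 * d + 2 * e + f) + b * (4 * a + 3 * b + 3 * c + 2 * d + 3 * e + 4 * f) +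
      c * (3 * b + d + 4 * e + 2 * f) + d * (3 * a + 2 * b + c + 4 * d + e + 3 * f) +
      e * (2 * a + 3 * b + 4 * c + d) + f * (a + 4 * b + 2 * c + 3 * d + 2 * f)) % 5
  | _ => 1

/-- One part of the check for scaling by two. -/
def okA (n : ℕ) : Bool :=
  !(qf (dig n) == 0) || decide (n = 0) || !(cnt (dig n) 1 == cnt (dig n) 2) ||
    walk walkA (List.range 6) 30 (dig n) == a0

/-- Completion of values on the roots of the stabiliser under a given element. -/
def fillB (n : ℕ) (σ : List ℕ) : List ℕ :=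
  let φ := [0, 0, n / 25, n / 5 % 5, n % 5, 0]
  [vmod 5 φ (σ.getD 0 0), vmod 5 φ (σ.getD 1 0), n / 25, n / 5 % 5, n % 5, vmod 5 φ (σ.getD 5 0)]

/-- One part of the check for the second function. -/
def okB (n : ℕ) : Bool :=
  stabImgs.all fun σ =>
    let b := fillB n σ
    !(via 5 b σ == scl 5 2 b) || b == [0, 0, 0, 0, 0, 0] || walk walkB J0 6 b == b0

end CfsgLib.E6Alt65
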